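import Groth.Agent.Sga4h.TameExt
import Groth.Agent.Lefpen.H714.Trait
import Mathlib.RingTheory.LaurentSeries
import Mathlib.FieldTheory.RatFunc.AsPolynomial

/-!
# Places of finite extensions of `Ω(t)` with values in Laurent series

`Ω` algebraically closed of characteristic zero.

* `sub e : Ω((T)) → Ω((s))`, `T ↦ s^e`;
* `exists_place`: `F` a field with a ring homomorphism `δ : F → Ω((T))`, `L / F` a finite extension: there are `e ≥ 1`
  and `Φ : L → Ω((s))` which is `f ↦ (δ f)(s^e)` on `F`.
-/

set_option autoImplicit false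
universe u v

namespace K207.Place

open IsLocalRing Polynomial IntermediateField

noncomputable section

section sub

variable (Ω : Type u) [Field Ω]

/-- The homomorphism `Ω((T)) → Ω((s))`, `T ↦ s^e`. -/
def sub (e : ℕ) (he : 0 < e) : LaurentSeries Ω →+* LaurentSeries Ω :=
  HahnSeries.embDomainRingHom (nsmulAddMonoidHom e : ℤ →+ ℤ)
    (fun a b h => by
      have h' : (e : ℤ) * a = (e : ℤ) * b := by simpa using h
      exact mul_left_cancel₀ (by exact_mod_cast he.ne') h')
    (fun a b => by
      have he' : (0 : ℤ) < e := by exact_mod_cast he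
      simp only [nsmulAddMonoidHom_apply, nsmul_eq_mul]
      exact mul_le_mul_iff_right₀ he')

variable {Ω}

@[simp] lemma sub_C (e : ℕ) (he : 0 < e) (z : Ω) : sub Ω e he (HahnSeries.C z) = HahnSeries.C z :=
  HahnSeries.embDomainRingHom_C

@[simp] lemma sub_single (e : ℕ) (he : 0 < e) (n : ℤ) (z : Ω) :
    sub Ω e he (HahnSeries.single n z) = HahnSeries.single ((e : ℤ) * n) z := by
  have h := HahnSeries.embDomain_single (Γ := ℤ) (Γ' := ℤ) (R := Ω)
    (f := ⟨⟨(nsmulAddMonoidHom e : ℤ →+ ℤ), fun a b h => by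
      have h' : (e : ℤ) * a = (e : ℤ) * b := by simpa using h
      exact mul_left_cancel₀ (by exact_mod_cast he.ne') h'⟩, by
      intro a b
      have he' : (0 : ℤ) < e := by exact_mod_cast he
      simp only [Function.Embedding.coeFn_mk, nsmulAddMonoidHom_apply, nsmul_eq_mul]
      exact mul_le_mul_iff_right₀ he'⟩) (g := n) (r := z)
  refine h.trans ?_
  simp

lemma coeff_sub (e : ℕ) (he : 0 < e) (x : LaurentSeries Ω) (n : ℤ) :
    (sub Ω e he x).coeff ((e : ℤ) * n) = x.coeff n := by
  have h := HahnSeries.embDomain_coeff (Γ := ℤ) (Γ' := ℤ) (R := Ω)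
    (f := ⟨⟨(nsmulAddMonoidHom e : ℤ →+ ℤ), fun a b h => by
      have h' : (e : ℤ) * a = (e : ℤ) * b := by simpa using h
      exact mul_left_cancel₀ (by exact_mod_cast he.ne') h'⟩, by
      intro a b
      have he' : (0 : ℤ) < e := by exact_mod_cast he
      simp only [Function.Embedding.coeFn_mk, nsmulAddMonoidHom_apply, nsmul_eq_mul]
      exact mul_le_mul_iff_right₀ he'⟩) (x := x) (a := n)
  refine Eq.trans ?_ h
  simp only [sub, HahnSeries.embDomainRingHom]
  congr 1

end sub

section place

variable {Ω : Type u} [Field Ω] [IsAlgClosed Ω] [CharZero Ω]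

/-- A finite extension of `Ω((T))` is `Ω((T^{1/m}))`. -/
theorem exists_hom_laurent (M : Type u) [Field M] [Algebra (LaurentSeries Ω) M]
    [FiniteDimensional (LaurentSeries Ω) M] :
    ∃ (e : ℕ) (he : 0 < e) (Φ : M →+* LaurentSeries Ω),
      ∀ f : LaurentSeries Ω, Φ (algebraMap (LaurentSeries Ω) M f) = sub Ω e he f := by
  let V := PowerSeries Ω
  let K := LaurentSeries Ω
  let _ : Algebra V M := ((algebraMap K M).comp (algebraMap V K)).toAlgebra
  have hK0 : CharZero K := charZero_of_injective_ringHom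
    (f := (HahnSeries.C : Ω →+* LaurentSeries Ω)) (RingHom.injective _)
  have : IsScalarTower V K M := IsScalarTower.of_algebraMap_eq fun _ => rfl
  have hR : EtCoh.IsStrictlyHenselianLocalRing V := Groth.Agent.Lefpen.H714.Trait.strict Ω
  have hπ : Irreducible (PowerSeries.X : V) := PowerSeries.X_prime.irreducible
  have hm : Module.finrank K M ≠ 0 := Module.finrank_pos.ne'
  have hu : IsUnit ((Module.finrank K M : ℕ) : V) := by
    have h1 : ((Module.finrank K M : ℕ) : V) = PowerSeries.C ((Module.finrank K M : ℕ) : Ω) := by simp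
    rw [h1]
    exact (IsUnit.mk0 _ (by exact_mod_cast hm)).map PowerSeries.C
  obtain ⟨y, hy⟩ := Groth.Agent.Sga4h.TameExt.exists_pow_eq V K M hR hu hπ
  set m := Module.finrank K M with hmdef
  have hfin : Module.finrank K K⟮y⟯ = m :=
    Groth.Agent.Sga4h.TameExt.finrank_adjoin_root V K M hm hπ hy
  have htop : K⟮y⟯ = (⊤ : IntermediateField K M) := by
    apply IntermediateField.eq_of_le_of_finrank_eq le_top
    rw [hfin, IntermediateField.finrank_top']
  have hmin : minpoly K y = X ^ m - C (algebraMap V K PowerSeries.X) := by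
    symm
    apply minpoly.eq_of_irreducible_of_monic
      (Groth.Agent.Sga4h.TameExt.irreducible_X_pow_sub_C K hm hπ)
    · rw [map_sub, map_pow, aeval_X, aeval_C, hy, ← IsScalarTower.algebraMap_apply]
      exact sub_self _
    · exact monic_X_pow_sub_C _ hm
  have hint : IsIntegral K y := Algebra.IsIntegral.isIntegral y
  have hm0 : 0 < m := Nat.pos_of_ne_zero hm
  have hX : algebraMap V K PowerSeries.X = HahnSeries.single (1 : ℤ) (1 : Ω) := HahnSeries.ofPowerSeries_X
  have hev : (minpoly K y).eval₂ (sub Ω m hm0) (HahnSeries.single (1 : ℤ) (1 : Ω)) = 0 := by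
    rw [hmin, eval₂_sub, eval₂_X_pow, eval₂_C, hX, sub_single, HahnSeries.single_pow]
    simp
  let l : AdjoinRoot (minpoly K y) →+* LaurentSeries Ω := AdjoinRoot.lift (sub Ω m hm0) _ hev
  let c : M →ₐ[K] AdjoinRoot (minpoly K y) :=
    ((adjoinRootEquivAdjoin K hint).symm.toAlgHom.comp (equivOfEq htop.symm).toAlgHom).comp
      topEquiv.symm.toAlgHom
  refine ⟨m, hm0, l.comp c.toRingHom, fun f => ?_⟩
  change l (c (algebraMap K M f)) = _
  rw [AlgHom.commutes]
  exact AdjoinRoot.lift_of hev

/-- **Places.** -/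
theorem exists_place {F : Type u} [Field F] (δ : F →+* LaurentSeries Ω) (L : Type u) [Field L] [Algebra F L]
    [FiniteDimensional F L] :
    ∃ (e : ℕ) (he : 0 < e) (Φ : L →+* LaurentSeries Ω),
      ∀ f : F, Φ (algebraMap F L f) = sub Ω e he (δ f) := by
  let K := LaurentSeries Ω
  let Kb := AlgebraicClosure K
  let _ : Algebra F Kb := ((algebraMap K Kb).comp δ).toAlgebra
  have : Algebra.IsAlgebraic F L := inferInstance
  let ψ : L →ₐ[F] Kb := IsAlgClosed.lift
  let b := Module.finBasis F L
  let S : Set Kb := Set.range fun i => ψ (b i)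
  have hS : Finite S := Set.finite_range _
  let L₁ : IntermediateField K Kb := IntermediateField.adjoin K S
  have hfd : FiniteDimensional K L₁ :=
    IntermediateField.finiteDimensional_adjoin fun x _ => Algebra.IsIntegral.isIntegral x
  have hmem : ∀ x : L, ψ x ∈ L₁ := by
    intro x
    rw [← b.sum_repr x, map_sum]
    refine sum_mem fun i _ => ?_
    rw [map_smul, Algebra.smul_def]
    refine mul_mem (L₁.algebraMap_mem (δ (b.repr x i))) ?_
    exact IntermediateField.subset_adjoin K S ⟨i, rfl⟩
  let ψ₁ : L →+* L₁ := ψ.toRingHom.codRestrict L₁.toSubfield hmem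
  obtain ⟨e, he, Φ, hΦ⟩ := exists_hom_laurent (Ω := Ω) L₁
  refine ⟨e, he, Φ.comp ψ₁, fun f => ?_⟩
  rw [← hΦ, RingHom.comp_apply]
  congr 1
  apply Subtype.ext
  change ψ (algebraMap F L f) = algebraMap K Kb (δ f)
  rw [AlgHom.commutes]
  rfl

end place

end

end K207.Place
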