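import Groth.Agent.BunMod.K207.Place
import Groth.Agent.BunMod.K667.Line
import Mathlib.RingTheory.Trace.Basic
import Mathlib.FieldTheory.Galois.Basic
import Mathlib.FieldTheory.Normal.Closure
import Mathlib.RingTheory.AlgebraicIndependent.Basic
import Mathlib.RingTheory.AlgebraicIndependent.Adjoin

/-!
# Sums over finite sets of points which are constant

`Ω` algebraically closed.

* `dl τ`: the homomorphism `Ω(t) → Ω((T))`, `t ↦ τ` (`τ` not a constant);
* `exists_const_of_no_pole`: an element of `Ω(t)` without pole on `ℙ¹` is a constant;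
* `exists_const_line`: the same for a sum of elements `y i` of a finite extension `L / Ω(t)` such that at every place
  `Φ : L → Ω((s))`, `t - c = s^e` or `t = s^{-e}`, the order of `y i` is `> -e`;
* `Gen`: `a, b : Fin M → Ω` is a generic pair over `k`;
* `exists_const`: the final statement for elements of a finite extension of `k(x₁, …, x_M)`.
-/

set_option autoImplicit false
universe u v

namespace K207.SumConst

open Polynomial K207.Place

noncomputable section

section ratfunc

variable {Ω : Type u} [Field Ω] [IsAlgClosed Ω]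

lemma injective_eval₂ {τ : LaurentSeries Ω} (hτ : ∀ z : Ω, τ ≠ HahnSeries.C z) :
    Function.Injective (Polynomial.eval₂RingHom (HahnSeries.C : Ω →+* LaurentSeries Ω) τ) := by
  rw [injective_iff_map_eq_zero]
  intro p hp
  by_contra h0
  have e0 : algebraMap Ω (LaurentSeries Ω) = HahnSeries.C := by
    ext1 z
    exact HahnSeries.ofPowerSeries_C z
  have hint : IsIntegral Ω τ := isAlgebraic_iff_isIntegral.1 ⟨p, h0, by
    rw [aeval_def, e0]
    exact hp⟩
  have h1 : (minpoly Ω τ).degree = 1 := IsAlgClosed.degree_eq_one_of_irreducible Ω (minpoly.irreducible hint)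
  obtain ⟨z, hz⟩ := minpoly.mem_range_of_degree_eq_one Ω τ h1
  rw [e0] at hz
  exact hτ z hz.symm

/-- The homomorphism `Ω(t) → Ω((T))`, `t ↦ τ`. -/
def dl (τ : LaurentSeries Ω) (hτ : ∀ z : Ω, τ ≠ HahnSeries.C z) : RatFunc Ω →+* LaurentSeries Ω :=
  RatFunc.liftRingHom (Polynomial.eval₂RingHom (HahnSeries.C : Ω →+* LaurentSeries Ω) τ)
    (nonZeroDivisors_le_comap_nonZeroDivisors_of_injective _ (injective_eval₂ hτ))

variable {τ : LaurentSeries Ω} (hτ : ∀ z : Ω, τ ≠ HahnSeries.C z)

lemma dl_C (z : Ω) : dl τ hτ (RatFunc.C z) = HahnSeries.C z := by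
  rw [dl, RatFunc.liftRingHom_C]
  simp

lemma dl_X : dl τ hτ RatFunc.X = τ := by
  rw [dl, RatFunc.liftRingHom_X]
  simp

lemma dl_algebraMap (p : Polynomial Ω) : dl τ hτ (algebraMap (Polynomial Ω) (RatFunc Ω) p) = p.eval₂ HahnSeries.C τ := by
  rw [dl, RatFunc.liftRingHom_algebraMap]
  rfl

/-- The parameter `c + T`. -/
def tc (c : Ω) : LaurentSeries Ω := HahnSeries.C c + HahnSeries.single (1 : ℤ) (1 : Ω)

/-- The parameter `T⁻¹`. -/
def ti : LaurentSeries Ω := HahnSeries.single (-1 : ℤ) (1 : Ω)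

lemma coeff_C_of_ne (z : Ω) {n : ℤ} (hn : n ≠ 0) : (HahnSeries.C z : LaurentSeries Ω).coeff n = 0 := by
  exact HahnSeries.coeff_single_of_ne hn

lemma tc_ne (c z : Ω) : tc c ≠ HahnSeries.C z := by
  intro h
  have h1 := congrArg (fun x : LaurentSeries Ω => x.coeff 1) h
  simp only [tc, HahnSeries.coeff_add] at h1
  rw [coeff_C_of_ne c one_ne_zero, coeff_C_of_ne z one_ne_zero, HahnSeries.coeff_single_same, zero_add] at h1
  exact one_ne_zero h1

lemma ti_ne (z : Ω) : (ti : LaurentSeries Ω) ≠ HahnSeries.C z := by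
  intro h
  have h1 := congrArg (fun x : LaurentSeries Ω => x.coeff (-1)) h
  simp only [ti] at h1
  rw [coeff_C_of_ne z (by norm_num), HahnSeries.coeff_single_same] at h1
  exact one_ne_zero h1

/-- A Laurent series without negative coefficients is a power series. -/
lemma exists_powerSeries (x : LaurentSeries Ω) (hx : ∀ n < 0, x.coeff n = 0) :
    ∃ a : PowerSeries Ω, HahnSeries.ofPowerSeries ℤ Ω a = x ∧ PowerSeries.constantCoeff a = x.coeff 0 := by
  have h1 : HahnSeries.ofPowerSeries ℤ Ω (PowerSeries.mk fun n => x.coeff n) = x := by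
    ext i
    rw [PowerSeries.coeff_coe]
    split_ifs with h
    · exact (hx i h).symm
    · rw [PowerSeries.coeff_mk]
      congr 1
      omega
  refine ⟨_, h1, ?_⟩
  rw [← PowerSeries.coeff_zero_eq_constantCoeff_apply, PowerSeries.coeff_mk]
  rfl

lemma eval₂_tc (c : Ω) (p : Polynomial Ω) : ∃ a : PowerSeries Ω,
    HahnSeries.ofPowerSeries ℤ Ω a = p.eval₂ HahnSeries.C (tc c) ∧ PowerSeries.constantCoeff a = p.eval c := by
  refine ⟨p.eval₂ PowerSeries.C (PowerSeries.C c + PowerSeries.X), ?_, ?_⟩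
  · rw [Polynomial.hom_eval₂]
    have e1 : (HahnSeries.ofPowerSeries ℤ Ω).comp PowerSeries.C = HahnSeries.C := by
      ext1 z
      exact PowerSeries.coe_C z
    have e2 : HahnSeries.ofPowerSeries ℤ Ω (PowerSeries.C c + PowerSeries.X) = tc c := by
      rw [map_add, tc, PowerSeries.coe_X]
      congr 1
      exact PowerSeries.coe_C c
    rw [e1, e2]
  · rw [Polynomial.hom_eval₂]
    have e1 : (PowerSeries.constantCoeff (R := Ω)).comp PowerSeries.C = RingHom.id Ω := by
      ext1 z
      simp
    rw [e1]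
    simp [Polynomial.eval, Polynomial.eval₂_eq_sum_range]

/-- An element of `Ω(t)` without poles is a constant. -/
theorem exists_const_of_no_pole (f : RatFunc Ω) (hc : ∀ (c : Ω) (n : ℤ), n < 0 → (dl (tc c) (tc_ne c) f).coeff n = 0)
    (hi : ∀ n : ℤ, n < 0 → (dl ti ti_ne f).coeff n = 0) : ∃ z : Ω, f = RatFunc.C z := by
  have hq0 : f.denom ≠ 0 := f.denom_ne_zero
  have hf : f * algebraMap (Polynomial Ω) (RatFunc Ω) f.denom = algebraMap (Polynomial Ω) (RatFunc Ω) f.num := by
    have h1 := RatFunc.num_div_denom f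
    rw [div_eq_iff ((map_ne_zero_iff _ (RatFunc.algebraMap_injective Ω)).2 hq0)] at h1
    exact h1.symm
  have hroot : ∀ c : Ω, f.denom.eval c ≠ 0 := by
    intro c h0
    obtain ⟨g, hg, hg0⟩ := exists_powerSeries _ (hc c)
    obtain ⟨a, ha, ha0⟩ := eval₂_tc c f.denom
    obtain ⟨b, hb, hb0⟩ := eval₂_tc c f.num
    have h1 := congrArg (dl (tc c) (tc_ne c)) hf
    rw [map_mul, dl_algebraMap, dl_algebraMap, ← hg, ← ha, ← hb, ← map_mul] at h1
    have h2 := congrArg PowerSeries.constantCoeff (HahnSeries.ofPowerSeries_injective h1)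
    rw [map_mul, ha0, hb0, h0, mul_zero] at h2
    have hcop := f.isCoprime_num_denom
    obtain ⟨u, v, huv⟩ := hcop
    have h3 := congrArg (Polynomial.eval c) huv
    rw [eval_add, eval_mul, eval_mul, ← h2, h0, mul_zero, mul_zero, add_zero, eval_one] at h3
    exact zero_ne_one h3
  have hdeg : f.denom.degree = 0 := by
    by_contra hd
    obtain ⟨c, hc⟩ := IsAlgClosed.exists_root f.denom hd
    exact hroot c hc
  have hden : f.denom = 1 := by
    rw [Polynomial.eq_C_of_degree_eq_zero hdeg]
    have h1 := f.monic_denom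
    have h2 : f.denom.natDegree = 0 := Polynomial.natDegree_eq_of_degree_eq_some hdeg
    rw [Polynomial.Monic, Polynomial.leadingCoeff, h2] at h1
    rw [h1, C_1]
  have hf' : f = algebraMap (Polynomial Ω) (RatFunc Ω) f.num := by
    rw [← hf, hden, map_one, mul_one]
  have hnum : ∀ i : ℕ, 0 < i → f.num.coeff i = 0 := by
    intro i hi0
    have h1 := hi (-(i : ℤ)) (by omega)
    rw [hf', dl_algebraMap, Polynomial.eval₂_eq_sum_range, HahnSeries.coeff_sum] at h1
    have h2 : ∀ j : ℕ, (HahnSeries.C (f.num.coeff j) * (ti : LaurentSeries Ω) ^ j).coeff (-(i : ℤ)) =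
        if j = i then f.num.coeff j else 0 := by
      intro j
      rw [ti, HahnSeries.single_pow, one_pow, HahnSeries.C_mul_eq_smul, HahnSeries.coeff_smul, HahnSeries.coeff_single]
      split_ifs with h3 h4 h4
      · simp
      · exact absurd (by simpa using h3.symm) h4
      · exact absurd (by simp [h4]) h3
      · simp
    rw [Finset.sum_congr rfl fun j _ => h2 j, Finset.sum_ite_eq'] at h1
    by_cases h3 : i ∈ Finset.range (f.num.natDegree + 1)
    · rwa [if_pos h3] at h1
    · exact Polynomial.coeff_eq_zero_of_natDegree_lt (by simpa using h3)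
  refine ⟨f.num.coeff 0, ?_⟩
  rw [hf']
  have h1 : f.num = C (f.num.coeff 0) := by
    ext i
    rcases Nat.eq_zero_or_pos i with rfl | h
    · simp
    · rw [hnum i h, coeff_C, if_neg h.ne']
  conv_lhs => rw [h1]
  rw [RatFunc.num_algebraMap]
  rfl

end ratfunc

/-- Extension of a finite extension along a homomorphism of fields. -/
theorem exists_extension {F F' : Type u} [Field F] [Field F'] (δ : F →+* F') (L₀ : Type u) [Field L₀] [Algebra F L₀]
    [FiniteDimensional F L₀] : ∃ (L : Type u) (_ : Field L) (_ : Algebra F' L) (_ : FiniteDimensional F' L)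
      (ψ : L₀ →+* L), ∀ f : F, ψ (algebraMap F L₀ f) = algebraMap F' L (δ f) := by
  let Kb := AlgebraicClosure F'
  let _ : Algebra F Kb := ((algebraMap F' Kb).comp δ).toAlgebra
  let ψ : L₀ →ₐ[F] Kb := IsAlgClosed.lift
  let b := Module.finBasis F L₀
  let S : Set Kb := Set.range fun i => ψ (b i)
  have hS : Finite S := Set.finite_range _
  let L₁ : IntermediateField F' Kb := IntermediateField.adjoin F' S
  have hfd : FiniteDimensional F' L₁ :=
    IntermediateField.finiteDimensional_adjoin fun x _ => Algebra.IsIntegral.isIntegral x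
  have hmem : ∀ x : L₀, ψ x ∈ L₁ := by
    intro x
    rw [← b.sum_repr x, map_sum]
    refine sum_mem fun i _ => ?_
    rw [map_smul, Algebra.smul_def]
    refine mul_mem (L₁.algebraMap_mem (δ (b.repr x i))) ?_
    exact IntermediateField.subset_adjoin F' S ⟨i, rfl⟩
  refine ⟨L₁, inferInstance, inferInstance, hfd, ψ.toRingHom.codRestrict L₁.toSubfield hmem, fun f => ?_⟩
  apply Subtype.ext
  change ψ (algebraMap F L₀ f) = algebraMap F' Kb (δ f)
  rw [AlgHom.commutes]
  rfl

section line

variable {Ω : Type u} [Field Ω] [IsAlgClosed Ω] [CharZero Ω]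

/-- The condition on the image of the coordinate `t` of the line: `t = c + s^e` or `t = s^{-e}`. -/
def IsPlace (e : ℕ) (τ : LaurentSeries Ω) : Prop :=
  (∃ c : Ω, τ = HahnSeries.C c + HahnSeries.single (e : ℤ) (1 : Ω)) ∨ τ = HahnSeries.single (-(e : ℤ)) (1 : Ω)

/-- A sum of elements of a finite extension of `Ω(t)` of order `> -e` at all places is constant if it is in `Ω(t)`. -/
theorem exists_const_line (L : Type u) [Field L] [Algebra (RatFunc Ω) L] [FiniteDimensional (RatFunc Ω) L]
    {ι : Type v} (s : Finset ι) (y : ι → L) (f : RatFunc Ω) (hf : ∑ i ∈ s, y i = algebraMap (RatFunc Ω) L f)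
    (hy : ∀ (e : ℕ) (Φ : L →+* LaurentSeries Ω), 0 < e →
      (∀ z : Ω, Φ (algebraMap (RatFunc Ω) L (RatFunc.C z)) = HahnSeries.C z) →
      IsPlace e (Φ (algebraMap (RatFunc Ω) L RatFunc.X)) →
      ∀ i ∈ s, ∀ n : ℤ, n ≤ -(e : ℤ) → (Φ (y i)).coeff n = 0) : ∃ z : Ω, f = RatFunc.C z := by
  have key : ∀ (τ : LaurentSeries Ω) (hτ : ∀ z : Ω, τ ≠ HahnSeries.C z),
      (∀ (e : ℕ) (he : 0 < e), IsPlace e (sub Ω e he τ)) → ∀ n : ℤ, n < 0 → (dl τ hτ f).coeff n = 0 := by
    intro τ hτ hp n hn
    obtain ⟨e, he, Φ, hΦ⟩ := exists_place (dl τ hτ) L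
    have h1 := hy e Φ he (fun z => by rw [hΦ, dl_C, sub_C]) (by rw [hΦ, dl_X]; exact hp e he)
    rw [← Place.coeff_sub e he, ← hΦ, ← hf, map_sum, HahnSeries.coeff_sum]
    refine Finset.sum_eq_zero fun i hi => h1 i hi _ ?_
    have h2 : (0 : ℤ) < e := by exact_mod_cast he
    nlinarith
  refine exists_const_of_no_pole f (fun c => key _ _ fun e he => Or.inl ⟨c, ?_⟩) (key _ _ fun e he => Or.inr ?_)
  · rw [tc, map_add, sub_C, sub_single, mul_one]
  · rw [ti, sub_single, mul_neg_one]

end line

section generic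

/-- `a, b` is a generic pair of points of the affine space of dimension `M` over `k`, with coordinates in the
algebraically closed field `Ω`, algebraic over `k(a, b)`. -/
structure Gen (k : Type u) [Field k] {M : ℕ} (Ω : Type u) [Field Ω] [Algebra k Ω] (a b : Fin M → Ω) : Prop where
  isAlgClosed : IsAlgClosed Ω
  indep : AlgebraicIndependent k (Sum.elim a b)
  isAlgebraic : Algebra.IsAlgebraic (IntermediateField.adjoin k (Set.range (Sum.elim a b))) Ω

theorem exists_gen (k : Type u) [Field k] (M : ℕ) : ∃ (Ω : Type u) (_ : Field Ω) (_ : Algebra k Ω) (a b : Fin M → Ω),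
    Gen k Ω a b := by
  let R := MvPolynomial (Fin M ⊕ Fin M) k
  let F := FractionRing R
  let Ω := AlgebraicClosure F
  let _ : Algebra k Ω := ((algebraMap F Ω).comp ((algebraMap R F).comp (algebraMap k R))).toAlgebra
  let x : Fin M ⊕ Fin M → Ω := fun i => algebraMap F Ω (algebraMap R F (MvPolynomial.X i))
  let φ : R →ₐ[k] Ω := { (algebraMap F Ω).comp (algebraMap R F) with commutes' := fun _ => rfl }
  have hφ : MvPolynomial.aeval x = φ := by
    apply MvPolynomial.algHom_ext
    intro i
    rw [MvPolynomial.aeval_X]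
    rfl
  have hφi : Function.Injective φ := (algebraMap F Ω).injective.comp (IsFractionRing.injective R F)
  have hx : Sum.elim (fun i => x (Sum.inl i)) (fun i => x (Sum.inr i)) = x := by
    funext i
    rcases i with i | i <;> rfl
  refine ⟨Ω, inferInstance, inferInstance, fun i => x (Sum.inl i), fun i => x (Sum.inr i), inferInstance, ?_, ?_⟩
  · rw [hx]
    change Function.Injective (MvPolynomial.aeval x : R →ₐ[k] Ω)
    rw [hφ]
    exact hφi
  · rw [hx]
    let E := IntermediateField.adjoin k (Set.range x)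
    have h1 : ∀ p : R, φ p ∈ E := by
      intro p
      rw [← hφ]
      have h3 : MvPolynomial.aeval x p ∈ Algebra.adjoin k (Set.range x) := by
        rw [Algebra.adjoin_range_eq_range_aeval]
        exact ⟨p, rfl⟩
      exact IntermediateField.algebra_adjoin_le_adjoin k _ h3
    have h2 : ∀ q : F, algebraMap F Ω q ∈ E := by
      intro q
      obtain ⟨p, r, -, rfl⟩ := IsFractionRing.div_surjective (A := R) q
      rw [map_div₀]
      exact E.div_mem (h1 p) (h1 r)
    let _ : Algebra F E := ((algebraMap F Ω).codRestrict E.toSubfield h2).toAlgebra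
    have : IsScalarTower F E Ω := IsScalarTower.of_algebraMap_eq fun _ => rfl
    exact Algebra.IsAlgebraic.tower_top (K := F) E

variable {k : Type u} [Field k] {M : ℕ}

/-- The polynomial ring in `M` variables. -/
abbrev PP (k : Type u) [Field k] (M : ℕ) : Type u := MvPolynomial (Fin M) k

/-- Its field of fractions. -/
abbrev KK (k : Type u) [Field k] (M : ℕ) : Type u := FractionRing (PP k M)

/-- The local estimate: at every place `Φ : L₀ → Ω((s))` over the generic line `x = a + t b`, with `t = c + s^e` or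
`t = s^{-e}`, the order of `y` is `> -e`. -/
def Est (k : Type u) [Field k] (M : ℕ) (L₀ : Type u) [Field L₀] [Algebra (KK k M) L₀] (y : L₀) : Prop :=
  ∀ (Ω : Type u) [Field Ω] [Algebra k Ω] (a b : Fin M → Ω), Gen k Ω a b →
    ∀ (e : ℕ) (τ : LaurentSeries Ω) (Φ : L₀ →+* LaurentSeries Ω), 0 < e → IsPlace e τ →
      (∀ z : k, Φ (algebraMap (KK k M) L₀ (algebraMap k (KK k M) z)) = HahnSeries.C (algebraMap k Ω z)) →
      (∀ i, Φ (algebraMap (KK k M) L₀ (algebraMap (PP k M) (KK k M) (MvPolynomial.X i))) =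
        HahnSeries.C (a i) + τ * HahnSeries.C (b i)) →
      ∀ n : ℤ, n ≤ -(e : ℤ) → (Φ y).coeff n = 0

/-- **Sums of elements with small poles at all places over the generic line are constants of `k`.** -/
theorem exists_const [CharZero k] (L₀ : Type u) [Field L₀] [Algebra (KK k M) L₀] [FiniteDimensional (KK k M) L₀]
    {ι : Type v} (s : Finset ι) (y : ι → L₀) (f : KK k M) (hf : ∑ i ∈ s, y i = algebraMap (KK k M) L₀ f)
    (hy : ∀ i ∈ s, Est k M L₀ (y i)) : ∃ z : k, f = algebraMap k (KK k M) z := by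
  obtain ⟨Ω, _, _, a, b, hg⟩ := exists_gen k M
  have hac := hg.isAlgClosed
  have hc0 : CharZero Ω := charZero_of_injective_algebraMap (algebraMap k Ω).injective
  have ha : AlgebraicIndependent k a := hg.indep.comp Sum.inl Sum.inl_injective
  let ρ₀ : PP k M →+* RatFunc Ω := (algebraMap (Polynomial Ω) (RatFunc Ω)).comp (K667.Line.ln a b).toRingHom
  have hρ₀ : Function.Injective ρ₀ := by
    rw [injective_iff_map_eq_zero]
    intro Q hQ
    by_contra h0
    exact K667.Line.ln_ne_zero h0 ha b (RatFunc.algebraMap_injective Ω (hQ.trans (map_zero _).symm))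
  let ρ : KK k M →+* RatFunc Ω := IsFractionRing.lift hρ₀
  have hρ : ∀ P : PP k M, ρ (algebraMap (PP k M) (KK k M) P) = algebraMap (Polynomial Ω) (RatFunc Ω)
      (K667.Line.ln a b P) := fun P => IsFractionRing.lift_algebraMap hρ₀ P
  obtain ⟨L, _, _, hLf, ψ, hψ⟩ := exists_extension ρ L₀
  obtain ⟨f₀, hf₀⟩ := exists_const_line L s (fun i => ψ (y i)) (ρ f) (by rw [← map_sum, hf, hψ]) (by
    intro e Φ he hC hX i hi n hn
    refine hy i hi Ω a b hg e _ (Φ.comp ψ) he hX (fun z => ?_) (fun j => ?_) n hn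
    · rw [RingHom.comp_apply, hψ, IsScalarTower.algebraMap_apply k (PP k M) (KK k M), hρ,
        MvPolynomial.algebraMap_eq, ← MvPolynomial.algebraMap_eq, AlgHom.commutes, ← hC]
      congr 2
    · rw [RingHom.comp_apply, hψ, hρ]
      have h1 : K667.Line.ln (k := k) a b (MvPolynomial.X j) = Polynomial.C (a j) + Polynomial.X * Polynomial.C (b j) := by
        simp [K667.Line.ln]
      rw [h1, map_add, map_mul, map_add, map_mul, map_add, map_mul]
      have h2 : ∀ z : Ω, Φ (algebraMap (RatFunc Ω) L (algebraMap (Polynomial Ω) (RatFunc Ω) (Polynomial.C z))) =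
          HahnSeries.C z := fun z => hC z
      rw [h2, h2]
      congr 2)
  obtain ⟨P, Q, hQ, rfl⟩ := IsFractionRing.div_surjective (A := PP k M) f
  have hQ0 : Q ≠ 0 := nonZeroDivisors.ne_zero hQ
  have hQ' : algebraMap (PP k M) (KK k M) Q ≠ 0 := by
    rw [Ne, map_eq_zero_iff _ (IsFractionRing.injective (PP k M) (KK k M))]
    exact hQ0
  have hline : K667.Line.ln a b P = K667.Line.ln a b Q * Polynomial.C f₀ := by
    apply RatFunc.algebraMap_injective Ω
    have h1 : algebraMap (Polynomial Ω) (RatFunc Ω) (K667.Line.ln a b Q) ≠ 0 :=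
      (map_ne_zero_iff _ (RatFunc.algebraMap_injective Ω)).2 (K667.Line.ln_ne_zero hQ0 ha b)
    rw [map_div₀, hρ, hρ, div_eq_iff h1] at hf₀
    rw [hf₀, map_mul, mul_comm]
    rfl
  have hki : Infinite k := Infinite.of_injective _ (Nat.cast_injective (R := k))
  obtain ⟨z, hz⟩ := K667.Line.of_line P Q hQ0 hg.indep f₀ hline
  refine ⟨z, ?_⟩
  rw [hz, map_mul, mul_div_cancel_right₀ _ hQ']
  rfl

/-- The order form of the estimate. -/
lemma coeff_eq_zero_of_order {Ω : Type u} [Field Ω] {x : LaurentSeries Ω} {e : ℕ} (h : -(e : ℤ) < x.order) (n : ℤ)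
    (hn : n ≤ -(e : ℤ)) : x.coeff n = 0 :=
  HahnSeries.coeff_eq_zero_of_lt_order (lt_of_le_of_lt hn h)

/-- The integral form of the estimate: `s^(e-1) x` is a power series. -/
lemma coeff_eq_zero_of_mul {Ω : Type u} [Field Ω] {x : LaurentSeries Ω} {e : ℕ} (he : 0 < e)
    (h : ∃ g : PowerSeries Ω, HahnSeries.single ((e : ℤ) - 1) (1 : Ω) * x = HahnSeries.ofPowerSeries ℤ Ω g) (n : ℤ)
    (hn : n ≤ -(e : ℤ)) : x.coeff n = 0 := by
  obtain ⟨g, hg⟩ := h
  have h1 : (HahnSeries.single ((e : ℤ) - 1) (1 : Ω) * x).coeff (n + ((e : ℤ) - 1)) = x.coeff n := by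
    rw [HahnSeries.coeff_single_mul_add, one_mul]
  rw [← h1, hg, PowerSeries.coeff_coe, if_pos (by omega)]

lemma Est.aut {L₀ : Type u} [Field L₀] [Algebra (KK k M) L₀] {y : L₀} (hy : Est k M L₀ y) (σ : L₀ ≃ₐ[KK k M] L₀) :
    Est k M L₀ (σ y) := by
  intro Ω _ _ a b hg e τ Φ he hτ hC hX n hn
  exact hy Ω a b hg e τ (Φ.comp σ.toAlgHom.toRingHom) he hτ
    (fun z => by rw [RingHom.comp_apply]; exact (congrArg Φ (σ.commutes _)).trans (hC z))
    (fun i => by rw [RingHom.comp_apply]; exact (congrArg Φ (σ.commutes _)).trans (hX i)) n hn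

lemma Est.map {L₀ L₁ : Type u} [Field L₀] [Algebra (KK k M) L₀] [Field L₁] [Algebra (KK k M) L₁] {y : L₀}
    (hy : Est k M L₀ y) (σ : L₀ →ₐ[KK k M] L₁) : Est k M L₁ (σ y) := by
  intro Ω _ _ a b hg e τ Φ he hτ hC hX n hn
  exact hy Ω a b hg e τ (Φ.comp σ.toRingHom) he hτ
    (fun z => by rw [RingHom.comp_apply]; exact (congrArg Φ (σ.commutes _)).trans (hC z))
    (fun i => by rw [RingHom.comp_apply]; exact (congrArg Φ (σ.commutes _)).trans (hX i)) n hn

/-- The trace of an element satisfying the local estimate is a constant (Galois extensions). -/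
theorem exists_const_trace_of_isGalois [CharZero k] (L₀ : Type u) [Field L₀] [Algebra (KK k M) L₀]
    [FiniteDimensional (KK k M) L₀] [IsGalois (KK k M) L₀] (y : L₀) (hy : Est k M L₀ y) :
    ∃ z : k, Algebra.trace (KK k M) L₀ y = algebraMap k (KK k M) z :=
  exists_const L₀ (Finset.univ : Finset (L₀ ≃ₐ[KK k M] L₀)) (fun σ => σ y) _
    (trace_eq_sum_automorphisms y).symm fun σ _ => hy.aut σ

/-- **The trace of an element satisfying the local estimate is a constant.** -/
theorem exists_const_trace [CharZero k] (L₀ : Type u) [Field L₀] [Algebra (KK k M) L₀]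
    [FiniteDimensional (KK k M) L₀] (y : L₀) (hy : Est k M L₀ y) :
    ∃ z : k, Algebra.trace (KK k M) L₀ y = algebraMap k (KK k M) z := by
  have hc : CharZero (KK k M) := charZero_of_injective_algebraMap (algebraMap k (KK k M)).injective
  let N := AlgebraicClosure L₀
  let E := IntermediateField.normalClosure (KK k M) L₀ N
  have hfe : FiniteDimensional (KK k M) E := inferInstance
  have hn : Normal (KK k M) E := inferInstance
  have hgal : IsGalois (KK k M) E := ⟨⟩
  have : FiniteDimensional L₀ E := Module.Finite.of_restrictScalars_finite (KK k M) L₀ E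
  have hy' : Est k M E (algebraMap L₀ E y) := hy.map (IsScalarTower.toAlgHom (KK k M) L₀ E)
  obtain ⟨z, hz⟩ := exists_const_trace_of_isGalois E _ hy'
  rw [← Algebra.trace_trace (S := L₀), Algebra.trace_algebraMap, map_nsmul] at hz
  have hd : (Module.finrank L₀ E : k) ≠ 0 := by
    exact_mod_cast (Module.finrank_pos (R := L₀) (M := E)).ne'
  refine ⟨z / (Module.finrank L₀ E : k), ?_⟩
  rw [map_div₀, ← hz, map_natCast, nsmul_eq_mul, mul_div_cancel_left₀]
  exact_mod_cast (Module.finrank_pos (R := L₀) (M := E)).ne'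

end generic

end

end K207.SumConst
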